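import Groth.Agent.Resolve.K616.NormFib
import Mathlib.AlgebraicGeometry.FunctionField

/-!
# The generic fibre of the normalization in an integral scheme over the generic point, II
-/

set_option autoImplicit false
universe u
open CategoryTheory CategoryTheory.Limits AlgebraicGeometry

namespace K616.NormFib

open K616.NC

/-- `E = E ×_N N'` when `N' ⟶ N` is a monomorphism through which `E ⟶ N` factors -/
theorem isPullback_id_of_mono {C : Type*} [Category C] {E N N' : C} (l : E ⟶ N') (g : N' ⟶ N) [Mono g] (v : E ⟶ N)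
    (w : l ≫ g = v) : IsPullback (𝟙 E) l v g := by
  refine ⟨⟨by rw [Category.id_comp, w]⟩, ⟨PullbackCone.IsLimit.mk _ (fun s => s.fst) ?_ ?_ ?_⟩⟩
  · intro s; exact Category.comp_id _
  · intro s
    rw [← cancel_mono g, Category.assoc, w]
    exact s.condition
  · intro s m h1 _
    rw [← h1, Category.comp_id]

theorem isPullback₀ {X : Scheme.{u}} [IsIntegral X] {E N : Scheme.{u}} (h : E ⟶ Spec X.functionField)
    [IsIntegralHom h] {v : E ⟶ N} (hv : IsNC v) (n : N ⟶ X) [IsIntegralHom n]
    (w : v ≫ n = h ≫ X.fromSpecStalk (genericPoint X)) :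
    IsPullback v h n (X.fromSpecStalk (genericPoint X)) := by
  obtain ⟨_, ⟨U, hU, rfl⟩, hxU, -⟩ := X.isBasis_affineOpens.exists_subset_of_mem_open
    (Set.mem_univ (genericPoint X)) isOpen_univ
  have : Nonempty U := ⟨⟨_, hxU⟩⟩
  have hfr := functionField_isFractionRing_of_isAffineOpen X U hU
  let s : Spec X.functionField ⟶ Spec Γ(X, U) := Spec.map (CommRingCat.ofHom (algebraMap Γ(X, U) X.functionField))
  have hs : s ≫ hU.fromSpec = X.fromSpecStalk (genericPoint X) := hU.fromSpecStalk_eq_fromSpecStalk hxU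
  have w' : v ≫ n = (h ≫ s) ≫ hU.fromSpec := by rw [Category.assoc, hs, w]
  let l : E ⟶ pullback n hU.fromSpec := pullback.lift v (h ≫ s) w'
  have hl : IsNC l := of_isPullback hv (g := pullback.fst n hU.fromSpec) (q := 𝟙 E)
    (isPullback_id_of_mono l _ v (pullback.lift_fst _ _ _))
  have h3 : IsIntegralHom (pullback.snd n hU.fromSpec) := MorphismProperty.pullback_snd _ _ inferInstance
  have h1 := isPullback_spec Γ(X, U) X.functionField h hl (pullback.snd n hU.fromSpec) (pullback.lift_snd _ _ _)
  have h2 := h1.paste_horiz (IsPullback.of_hasPullback n hU.fromSpec)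
  rw [pullback.lift_fst] at h2
  exact hs ▸ h2

/-- version for a field `K` with an isomorphism `Spec K ≅ Spec k(X)` -/
theorem isPullback {T X : Scheme.{u}} [IsIntegral X] (e : T ≅ Spec X.functionField) {E N : Scheme.{u}} (h : E ⟶ T)
    [IsIntegralHom h] {v : E ⟶ N} (hv : IsNC v) (n : N ⟶ X) [IsIntegralHom n]
    (w : v ≫ n = h ≫ e.hom ≫ X.fromSpecStalk (genericPoint X)) :
    IsPullback v h n (e.hom ≫ X.fromSpecStalk (genericPoint X)) := by
  have h1 := isPullback₀ (h ≫ e.hom) hv n (by rw [w, Category.assoc])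
  have h2 : IsPullback (𝟙 E) h (h ≫ e.hom) e.hom := IsPullback.of_horiz_isIso ⟨by rw [Category.id_comp]⟩
  have h3 := h2.paste_horiz h1
  rwa [Category.id_comp] at h3

end K616.NormFib
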