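import Groth.Agent.Resolve.K616.SpreadAlg
import Groth.Agent.Resolve.K616.NormFib2
import Groth.Agent.Etdl.H426.ChartLocus

/-!
# Spreading out a finite etale scheme over the generic point
-/

set_option autoImplicit false
universe u
open CategoryTheory CategoryTheory.Limits AlgebraicGeometry

namespace K616.Spread

open Groth.Agent

/-- a finite morphism `Spec C ⟶ Spec R` is etale over an open over which it is pointwise etale -/
theorem etale_restrict {X Y : Scheme.{u}} (f : X ⟶ Y) (D : Y.Opens) (h : f ⁻¹ᵁ D ≤ Pi1X.etaleLocus f) :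
    Etale (f ∣_ D) := by
  have h1 : Etale ((f ⁻¹ᵁ D).ι ≫ f) := Pi1.H398.SecLift.etale_of_le f _ h
  rw [← morphismRestrict_ι] at h1
  exact MorphismProperty.of_postcomp (W := @Etale) (W' := @Etale) (f ∣_ D) D.ι inferInstance h1

theorem exists_spec (R K A : Type u) [CommRing R] [IsDomain R] [IsNoetherianRing R] [Field K] [Algebra R K]
    [IsFractionRing R K] [CommRing A] [Algebra K A] [Module.Finite K A] [Algebra.FormallyEtale K A] :
    ∃ (Z : Scheme.{u}) (t : Z ⟶ Spec (CommRingCat.of R)) (v : Spec (CommRingCat.of A) ⟶ Z)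
      (D : (Spec (CommRingCat.of R)).Opens), IsFinite t ∧ D ≠ ⊥ ∧ Etale (t ∣_ D) ∧
      IsPullback v (Spec.map (CommRingCat.ofHom (algebraMap K A))) t
        (Spec.map (CommRingCat.ofHom (algebraMap R K))) := by
  let _ : Algebra R A := ((algebraMap K A).comp (algebraMap R K)).toAlgebra
  have : IsScalarTower R K A := .of_algebraMap_eq' rfl
  obtain ⟨C, hC, hCl⟩ := SpreadAlg.exists_finite_model R K A
  obtain ⟨f, hf, hf'⟩ := SpreadAlg.exists_etale R K A C
  have hpo : IsPushout (CommRingCat.ofHom (algebraMap R C)) (CommRingCat.ofHom (algebraMap R K))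
      (CommRingCat.ofHom (algebraMap C A)) (CommRingCat.ofHom (algebraMap K A)) :=
    CommRingCat.isPushout_of_isLocalization _ _ (by
      rw [← IsScalarTower.algebraMap_eq R K A, ← IsScalarTower.algebraMap_eq R C A])
      (nonZeroDivisors R)
  have hpb := isPullback_SpecMap_of_isPushout _ _ _ _ hpo
  have hfin : IsFinite (Spec.map (CommRingCat.ofHom (algebraMap R C))) := by
    rw [IsFinite.SpecMap_iff]
    exact RingHom.finite_algebraMap.mpr hC
  have : Algebra.FinitePresentation R C := Algebra.FinitePresentation.of_finiteType.mp inferInstance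
  refine ⟨_, _, _, PrimeSpectrum.basicOpen f, hfin, ?_, ?_, hpb⟩
  · intro h
    have h1 : (⟨⊥, Ideal.isPrime_bot⟩ : PrimeSpectrum R) ∈ PrimeSpectrum.basicOpen f := hf
    rw [h] at h1
    exact h1
  · apply etale_restrict
    intro q hq
    rw [Etdl.H426.ChartLocus.mem_etaleLocus_specMap']
    exact hf' q hq

end K616.Spread
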