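import Groth.Prelude.Def_ActBC

/-!
# Descent of an action from a base change on which the base change functor is fully faithful
-/

set_option autoImplicit false
universe u
open CategoryTheory CategoryTheory.Limits MonoidalCategory CartesianMonoidalCategory MonObj GrpObj AlgebraicGeometry

namespace K616.ActDesc

open NonAbH1

variable {S S' : Scheme.{u}} (f : S' ⟶ S) {G N : Over S} [GrpObj G]

theorem exists_action (b : AlgGrp.Action (Red.bc f G) (Red.bc f N))
    (h1 : Function.Surjective (fun a : G ⊗ N ⟶ N => (Over.pullback f).map a))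
    (h2 : Function.Injective (fun a : 𝟙_ (Over S) ⊗ N ⟶ N => (Over.pullback f).map a))
    (h3 : Function.Injective (fun a : (G ⊗ G) ⊗ N ⟶ N => (Over.pullback f).map a)) :
    ∃ a : AlgGrp.Action G N, a.bc f = b := by
  obtain ⟨c, hc⟩ := h1 (inv (Functor.LaxMonoidal.μ (Over.pullback f) G N) ≫ b.act)
  dsimp only at hc
  have hc' : Functor.LaxMonoidal.μ (Over.pullback f) G N ≫ (Over.pullback f).map c = b.act := by
    rw [hc, IsIso.hom_inv_id_assoc]
  have e1 : (η[G] ▷ N) ≫ c = (λ_ N).hom := by
    apply h2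
    dsimp only
    have h := b.one_act
    rw [Functor.obj.η_def, comp_whiskerRight, Category.assoc, ← hc', Functor.LaxMonoidal.μ_natural_left_assoc,
      ← Functor.map_comp] at h
    rw [Functor.LaxMonoidal.left_unitality (Over.pullback f) N] at h
    rw [cancel_epi, cancel_epi] at h
    exact h
  have e2 : (μ[G] ▷ N) ≫ c = (α_ G G N).hom ≫ (G ◁ c) ≫ c := by
    apply h3
    dsimp only
    have h := b.mul_act
    rw [Functor.obj.μ_def, comp_whiskerRight, Category.assoc, ← hc', Functor.LaxMonoidal.μ_natural_left_assoc,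
      ← Functor.map_comp] at h
    rw [MonoidalCategory.whiskerLeft_comp, Category.assoc, Functor.LaxMonoidal.μ_natural_right_assoc,
      ← Functor.LaxMonoidal.associativity_assoc, ← Functor.map_comp, ← Functor.map_comp] at h
    rw [cancel_epi, cancel_epi] at h
    exact h
  exact ⟨⟨c, e1, e2⟩, AlgGrp.Action.ext' hc'⟩

/-- transport of an action along an isomorphism -/
theorem exists_transport {G X Y : Over S} [GrpObj G] (a : AlgGrp.Action G X) (e : Y ≅ X) :
    ∃ b : AlgGrp.Action G Y, Nonempty (EquivIso b a) := by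
  refine ⟨⟨(G ◁ e.hom) ≫ a.act ≫ e.inv, ?_, ?_⟩, ⟨⟨e, ?_⟩⟩⟩
  · rw [← whisker_exchange_assoc, reassoc_of% a.one_act]
    simp
  · have h := a.mul_act
    rw [← whisker_exchange_assoc, reassoc_of% h]
    simp
  · simp

/-- a pseudo-torsor on a base change where the base change functor reflects the shear isomorphism -/
theorem isPseudoTorsorSch_of_bc (a : AlgGrp.Action G N) (h : IsPseudoTorsorSch (a.bc f))
    (hr : ∀ σ : G ⊗ N ⟶ N ⊗ N, IsIso ((Over.pullback f).map σ) → IsIso σ) : IsPseudoTorsorSch a := by
  have key : lift (a.bc f).act (snd _ _) ≫ Functor.LaxMonoidal.μ (Over.pullback f) N N =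
      Functor.LaxMonoidal.μ (Over.pullback f) G N ≫ (Over.pullback f).map (lift a.act (snd G N)) := by
    rw [← Functor.Monoidal.lift_μ, comp_lift_assoc, Functor.Monoidal.μ_snd, AlgGrp.Action.bc_act]
  apply hr
  have : IsIso (lift (a.bc f).act (snd (Red.bc f G) (Red.bc f N))) := h
  have h2 : IsIso (Functor.LaxMonoidal.μ (Over.pullback f) G N ≫ (Over.pullback f).map (lift a.act (snd G N))) := by
    rw [← key]; infer_instance
  exact IsIso.of_isIso_comp_left (Functor.LaxMonoidal.μ (Over.pullback f) G N) _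

/-- pseudo-torsors and equivariant isomorphisms -/
theorem isPseudoTorsorSch_of_equivIso {G X Y : Over S} [GrpObj G] {a : AlgGrp.Action G X} {b : AlgGrp.Action G Y}
    (e : EquivIso a b) (h : IsPseudoTorsorSch b) : IsPseudoTorsorSch a := by
  have : IsIso (lift b.act (snd G Y)) := h
  have key : lift a.act (snd G X) ≫ (e.iso.hom ⊗ₘ e.iso.hom) = (G ◁ e.iso.hom) ≫ lift b.act (snd G Y) := by
    rw [lift_map, comp_lift, e.comm, whiskerLeft_snd]
  have h2 : IsIso (lift a.act (snd G X) ≫ (e.iso.hom ⊗ₘ e.iso.hom)) := by rw [key]; infer_instance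
  exact IsIso.of_isIso_comp_right _ (e.iso.hom ⊗ₘ e.iso.hom)

/-- restriction along an isomorphism of groups -/
theorem isPseudoTorsorSch_restrict {G H X : Over S} [GrpObj G] [GrpObj H] (φ : H ⟶ G) [IsMonHom φ] [IsIso φ]
    {a : AlgGrp.Action G X} (h : IsPseudoTorsorSch a) : IsPseudoTorsorSch (a.restrict φ) := by
  have : IsIso (lift a.act (snd G X)) := h
  have key : lift (a.restrict φ).act (snd H X) = (φ ▷ X) ≫ lift a.act (snd G X) := by
    rw [comp_lift, AlgGrp.Action.restrict_act, whiskerRight_snd]
  change IsIso _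
  rw [key]
  infer_instance

end K616.ActDesc
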