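import Groth.Agent.Resolve.K616.Gen
import Groth.Agent.Resolve.K616.ActDesc
import Groth.Agent.Resolve.K616.NormFib2

/-!
# Extension of an action from the generic fibre to the normalization
-/

set_option autoImplicit false
universe u
open CategoryTheory CategoryTheory.Limits MonoidalCategory CartesianMonoidalCategory MonObj GrpObj AlgebraicGeometry

namespace K616.Core

open K616.NC K616.Gen NonAbH1

variable {T X : Scheme.{u}}

/-- the data of a normalization: `N` is integral over `X`, integrally closed in `E`, with generic fibre `E` -/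
theorem gen_of_isPullback {j : T ⟶ X} {E : Over T} {N : Over X} {v : E.left ⟶ N.left} (hv : IsNC v)
    (sq : IsPullback v E.hom N.hom j) : Gen j N := by
  have h : pullback.fst N.hom j = sq.isoPullback.inv ≫ v := by rw [sq.isoPullback_inv_fst]
  unfold Gen
  rw [h]
  exact NormFib.iso_comp hv _

noncomputable def isoOfIsPullback {j : T ⟶ X} {E : Over T} {N : Over X} {v : E.left ⟶ N.left}
    (sq : IsPullback v E.hom N.hom j) : (Over.pullback j).obj N ≅ E :=
  Over.isoMk sq.isoPullback.symm (by
    change sq.isoPullback.inv ≫ E.hom = pullback.snd _ _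
    rw [sq.isoPullback_inv_snd])

/-- extension of an action -/
theorem exists_action {j : T ⟶ X} {Γ N : Over X} [GrpObj Γ] [Smooth Γ.hom] [IsIntegralHom N.hom] (hN : Gen j N)
    (b : AlgGrp.Action (Red.bc j Γ) (Red.bc j N)) : ∃ a : AlgGrp.Action Γ N, a.bc j = b := by
  have h0 : Smooth (snd Γ N).left := by
    change Smooth (pullback.snd Γ.hom N.hom)
    infer_instance
  have h1 : Gen j (Γ ⊗ N) := of_smooth hN (snd Γ N)
  have h2 : Smooth (snd Γ Γ).left := by
    change Smooth (pullback.snd Γ.hom Γ.hom)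
    infer_instance
  have h3 : Smooth (Γ ⊗ Γ).hom := by
    rw [← Over.w (snd Γ Γ)]
    infer_instance
  have h4 : Smooth (snd (Γ ⊗ Γ) N).left := by
    change Smooth (pullback.snd (Γ ⊗ Γ).hom N.hom)
    infer_instance
  have h5 : Gen j ((Γ ⊗ Γ) ⊗ N) := of_smooth hN (snd (Γ ⊗ Γ) N)
  have h6 : IsIso (snd (𝟙_ (Over X)) N) := by
    rw [← leftUnitor_hom]; infer_instance
  have h7 : IsIso (snd (𝟙_ (Over X)) N).left := inferInstanceAs (IsIso ((Over.forget X).map (snd (𝟙_ (Over X)) N)))
  have h8 : Gen j (𝟙_ (Over X) ⊗ N) := of_smooth hN (snd (𝟙_ (Over X)) N)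
  exact ActDesc.exists_action j b (surjective h1) (injective h8) (injective h5)

theorem main {j : T ⟶ X} {Γ N : Over X} {E : Over T} [GrpObj Γ] [Smooth Γ.hom] [IsIntegralHom N.hom]
    {v : E.left ⟶ N.left} (hv : IsNC v) (sq : IsPullback v E.hom N.hom j)
    (α : AlgGrp.Action (Red.bc j Γ) E) : ∃ a : AlgGrp.Action Γ N, Nonempty (EquivIso (a.bc j) α) := by
  obtain ⟨b, hb⟩ := ActDesc.exists_transport α (isoOfIsPullback sq)
  obtain ⟨a, ha⟩ := exists_action (gen_of_isPullback hv sq) b
  exact ⟨a, by rw [ha]; exact hb⟩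

end K616.Core
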