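import Groth.Agent.Resolve.K616.GenPt
import Groth.Agent.Resolve.K631.E3
import Groth.Agent.DEquiv.K351.RegCrit
import Mathlib.FieldTheory.IntermediateField.Adjoin.Algebra

/-!
# A projective model of a finitely generated field
-/

set_option autoImplicit false
universe u
open CategoryTheory CategoryTheory.Limits AlgebraicGeometry

namespace K616.Model

open K616.GenPt

theorem exists_algebra (k K : Type u) [Field k] [Field K] [Algebra k K] (hK : (⊤ : IntermediateField k K).FG) :
    ∃ A : Subalgebra k K, Algebra.FiniteType k A ∧ IsFractionRing A K := by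
  obtain ⟨s, hs⟩ := hK
  refine ⟨Algebra.adjoin k (s : Set K), (Subalgebra.fg_iff_finiteType _).mp ⟨s, rfl⟩, ?_⟩
  apply IsFractionRing.of_field
  intro z
  have hz : z ∈ IntermediateField.adjoin k (s : Set K) := by rw [hs]; trivial
  obtain ⟨r, hr, t, ht, h⟩ := IntermediateField.mem_adjoin_iff_div.mp hz
  exact ⟨⟨r, hr⟩, ⟨t, ht⟩, h⟩

theorem exists_model (k K : Type u) [Field k] [Field K] [Algebra k K] (hK : (⊤ : IntermediateField k K).FG) :
    ∃ (X : Scheme.{u}) (_ : IsIntegral X) (x : X ⟶ Spec (CommRingCat.of k)) (d : ℕ) (j : Spec (CommRingCat.of K) ⟶ X),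
      RelProj.IsHProjective x ∧ topologicalKrullDim X = d ∧ IsGenPt j ∧
      j ≫ x = Spec.map (CommRingCat.ofHom (algebraMap k K)) := by
  obtain ⟨A, hA, hA'⟩ := exists_algebra k K hK
  let U : Scheme.{u} := Spec (CommRingCat.of A)
  let p : U ⟶ Spec (CommRingCat.of k) := Spec.map (CommRingCat.ofHom (algebraMap k A))
  have hp : LocallyOfFiniteType p := by
    rw [HasRingHomProperty.Spec_iff (P := @LocallyOfFiniteType)]
    exact RingHom.finiteType_algebraMap.mpr hA
  have : IsDomain (CommRingCat.of A) := inferInstanceAs (IsDomain A)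
  have : IsIntegral U := inferInstance
  obtain ⟨n, φ, hφ, hφ'⟩ := K351.RegCrit.exists_immersion p
  obtain ⟨X, o, x, d, hX, ho, hox, hx, hd⟩ := K631.ResE3.exists_closure p φ hφ'
  refine ⟨X, hX, x, d, Spec.map (CommRingCat.ofHom (algebraMap A K)) ≫ o, hx, hd, (isGenPt_spec A K).comp o, ?_⟩
  rw [Category.assoc, hox, ← Spec.map_comp]
  rfl

end K616.Model
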