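import Groth.Agent.Resolve.K616.Spread

/-!
# Spreading out a finite etale scheme over the generic point, II
-/

set_option autoImplicit false
universe u
open CategoryTheory CategoryTheory.Limits AlgebraicGeometry

namespace K616.Spread

open Groth.Agent

/-- an open subset of the spectrum of a domain contains the image of the spectrum of the fraction field -/
theorem range_subset (R K : Type u) [CommRing R] [IsDomain R] [Field K] [Algebra R K] [IsFractionRing R K]
    (D : (Spec (CommRingCat.of R)).Opens) (hD : D ≠ ⊥) (x : Spec (CommRingCat.of K)) :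
    Spec.map (CommRingCat.ofHom (algebraMap R K)) x ∈ D := by
  obtain ⟨q, hq⟩ : (D : Set (Spec (CommRingCat.of R))).Nonempty := by
    rw [Set.nonempty_iff_ne_empty]
    intro h
    exact hD (TopologicalSpace.Opens.ext h)
  have hsp : (Spec.map (CommRingCat.ofHom (algebraMap R K)) x) ⤳ q := by
    refine (PrimeSpectrum.le_iff_specializes (R := R) _ _).mp ?_
    intro (r : R) hr
    have h1 : algebraMap R K r ∈ PrimeSpectrum.asIdeal (R := K) x := hr
    have h2 : algebraMap R K r = 0 := by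
      by_contra h
      exact (PrimeSpectrum.isPrime (R := K) x).ne_top ((Ideal.eq_top_iff_one _).mpr (by
        have := Ideal.mul_mem_left (PrimeSpectrum.asIdeal (R := K) x) (algebraMap R K r)⁻¹ h1
        rwa [inv_mul_cancel₀ h] at this))
    have h3 : r = 0 := by
      apply IsFractionRing.injective R K
      rw [h2, map_zero]
    rw [h3]; exact Ideal.zero_mem _
  exact hsp.mem_open D.2 hq

theorem exists_model {T X : Scheme.{u}} [IsIntegral X] [IsLocallyNoetherian X] (e : T ≅ Spec X.functionField)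
    {E : Scheme.{u}} (h : E ⟶ T) [IsFinite h] [Etale h] :
    ∃ (V : X.Opens) (Z : Scheme.{u}) (t : Z ⟶ V) (v : E ⟶ Z) (j : T ⟶ V), IsFinite t ∧ Etale t ∧
      j ≫ V.ι = e.hom ≫ X.fromSpecStalk (genericPoint X) ∧ IsPullback v h t j ∧ genericPoint X ∈ V := by
  have hE : IsAffine E := isAffine_of_isAffineHom (h ≫ e.hom)
  let K : Type u := X.functionField
  let A : Type u := Γ(E, ⊤)
  let φ : X.functionField ⟶ Γ(E, ⊤) := (Scheme.ΓSpecIso X.functionField).inv ≫ (h ≫ e.hom).appTop
  have hφ : h ≫ e.hom = E.isoSpec.hom ≫ Spec.map φ := by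
    rw [Spec.map_comp, ← Category.assoc]
    rw [Scheme.isoSpec_hom_naturality, Category.assoc, Scheme.isoSpec_Spec_hom, ← Spec.map_comp]
    simp
  have hφ' : Spec.map φ = inv E.isoSpec.hom ≫ h ≫ e.hom := by rw [hφ, IsIso.inv_hom_id_assoc]
  have hφ1 : IsFinite (Spec.map φ) := by rw [hφ']; infer_instance
  have hφ2 : Etale (Spec.map φ) := by rw [hφ']; infer_instance
  obtain ⟨_, ⟨U, hU, rfl⟩, hxU, -⟩ := X.isBasis_affineOpens.exists_subset_of_mem_open
    (Set.mem_univ (genericPoint X)) isOpen_univ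
  have : Nonempty U := ⟨⟨_, hxU⟩⟩
  have hfr := functionField_isFractionRing_of_isAffineOpen X U hU
  have hN : IsNoetherianRing Γ(X, U) := IsLocallyNoetherian.component_noetherian ⟨U, hU⟩
  algebraize [φ.hom]
  have : Module.Finite K A := by
    rw [IsFinite.SpecMap_iff] at hφ1
    exact RingHom.finite_algebraMap.mp hφ1
  have : Algebra.FormallyEtale K A := by
    rw [HasRingHomProperty.Spec_iff (P := @Etale)] at hφ2
    exact hφ2.1
  obtain ⟨Z', t', v', D, ht', hD, hD', sq⟩ := exists_spec Γ(X, U) K A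
  let s : Spec (CommRingCat.of K) ⟶ Spec (CommRingCat.of Γ(X, U)) := Spec.map (CommRingCat.ofHom (algebraMap Γ(X, U) K))
  have hs : s ≫ hU.fromSpec = X.fromSpecStalk (genericPoint X) := hU.fromSpecStalk_eq_fromSpecStalk hxU
  have sq1 : IsPullback (E.isoSpec.hom ≫ v') h t' (e.hom ≫ s) :=
    (IsPullback.of_horiz_isIso (fst := E.isoSpec.hom) (snd := h) (f := Spec.map φ) (g := e.hom)
      ⟨hφ.symm⟩).paste_horiz sq
  let jD : T ⟶ D := IsOpenImmersion.lift D.ι (e.hom ≫ s) (by
    rw [Scheme.Opens.range_ι]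
    rintro _ ⟨x, rfl⟩
    exact range_subset Γ(X, U) K D hD (e.hom x))
  have hjD : jD ≫ D.ι = e.hom ≫ s := IsOpenImmersion.lift_fac _ _ _
  have sqD := (isPullback_morphismRestrict t' D).flip
  let vD : E ⟶ t' ⁻¹ᵁ D := sqD.lift (E.isoSpec.hom ≫ v') (h ≫ jD) (by
    rw [Category.assoc h, hjD]; exact sq1.w)
  have hvD : vD ≫ (t' ⁻¹ᵁ D).ι = E.isoSpec.hom ≫ v' := sqD.lift_fst _ _ _
  have hvD' : vD ≫ (t' ∣_ D) = h ≫ jD := sqD.lift_snd _ _ _
  have sq2 : IsPullback vD h (t' ∣_ D) jD := by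
    refine IsPullback.of_right ?_ hvD' sqD
    rw [hvD, hjD]
    exact sq1
  let i := hU.fromSpec.isoImage D
  have hi : i.hom ≫ (hU.fromSpec ''ᵁ D).ι = D.ι ≫ hU.fromSpec := Scheme.Hom.isoImage_hom_ι _ _
  have hjV : (jD ≫ i.hom) ≫ (hU.fromSpec ''ᵁ D).ι = e.hom ≫ X.fromSpecStalk (genericPoint X) := by
    rw [Category.assoc, hi, reassoc_of% hjD, hs]
  refine ⟨hU.fromSpec ''ᵁ D, t' ⁻¹ᵁ D, (t' ∣_ D) ≫ i.hom, vD, jD ≫ i.hom, inferInstance, inferInstance, hjV, ?_, ?_⟩
  · exact sq2.of_iso (Iso.refl _) (Iso.refl _) (Iso.refl _) i (by simp) (by simp) (by simp) (by simp)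
  · have hne : ((hU.fromSpec ''ᵁ D : X.Opens) : Set X).Nonempty := by
      obtain ⟨q, hq⟩ : (D : Set (Spec (CommRingCat.of Γ(X, U)))).Nonempty := by
        rw [Set.nonempty_iff_ne_empty]
        intro h
        exact hD (TopologicalSpace.Opens.ext h)
      exact ⟨_, q, hq, rfl⟩
    exact ((genericPoint_spec X).mem_open_set_iff (hU.fromSpec ''ᵁ D).isOpen).mpr (by simpa using hne)

end K616.Spread
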