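import Groth.Prelude.Def_NonAbH2
import Groth.Prelude.Def_ActBC
import Groth.Agent.S0353
import Groth.Agent.NeronHD.K776.SmoothLqf
import Groth.Agent.PrincBund.K826.TorsField
import Groth.Agent.PrincBund.K826.Descend

/-!
# Torsors under finite groups over fields of characteristic zero
-/

set_option autoImplicit false
universe u
open CategoryTheory CategoryTheory.Limits MonoidalCategory CartesianMonoidalCategory MonObj GrpObj AlgebraicGeometry

namespace K616.Tors

theorem etale (k : Type u) [Field k] [CharZero k] (S : Over (Spec (CommRingCat.of k))) [GrpObj S] [IsFinite S.hom] :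
    Etale S.hom := by
  have : Smooth S.hom := Groth.Agent.S0353.result k S
  exact K776.SmoothLqf.etale_of_smooth_of_locallyQuasiFinite S.hom

theorem props {K : Type u} [Field K] {S : Over (Spec (CommRingCat.of K))} [GrpObj S] [IsFinite S.hom] [Etale S.hom]
    (α : NonAbH1.TorsorSch S Scheme.etalePrecoverage) :
    IsFinite α.X.hom ∧ Etale α.X.hom ∧ Nonempty α.X.left := by
  have h1 : Nonempty α.X.left := by
    obtain ⟨R, hR, h⟩ := α.isTorsor.2
    exact K826.TorsField.nonempty_of_locTriv ⟨R, K826.Descend.etale_le_fpqc _ hR, h⟩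
  have h2 : MorphismProperty.DescendsAlong @IsFinite (@Surjective ⊓ @Flat ⊓ @QuasiCompact : MorphismProperty Scheme.{u}) :=
    inferInstance
  exact ⟨K826.TorsField.prop_of_pseudo α.act α.isTorsor.1 @IsFinite inferInstance,
    K826.TorsField.prop_of_pseudo α.act α.isTorsor.1 @Etale inferInstance, h1⟩

end K616.Tors
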