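import Groth.Agent.Resolve.K616.Geo
import Groth.Agent.Resolve.K616.Model
import Groth.Agent.Resolve.K616.Spread2
import Groth.Agent.Resolve.K616.Tors
import Groth.Agent.Resolve.K588.HProj
import Groth.Agent.Vanish.K27.JetMem
import Groth.Prelude.Def_LogNCD
import Groth.Prelude.Def_RelProj
import Groth.Prelude.Def_Pi1

/-!
# `∀ n, W k n` implies S18520
-/

set_option autoImplicit false
universe u
open CategoryTheory CategoryTheory.Limits MonoidalCategory CartesianMonoidalCategory MonObj GrpObj AlgebraicGeometry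

namespace K616.ResE4

open K84.Iface K616.NC K616.Gen K616.GenPt NonAbH1

/-- restriction of an equivariant isomorphism along a homomorphism -/
noncomputable def restrictEquiv {S : Scheme.{u}} {G H X Y : Over S} [GrpObj G] [GrpObj H] (φ : H ⟶ G) [IsMonHom φ]
    {a : AlgGrp.Action G X} {b : AlgGrp.Action G Y} (e : EquivIso a b) :
    EquivIso (a.restrict φ) (b.restrict φ) where
  iso := e.iso
  comm := by
    rw [AlgGrp.Action.restrict_act, AlgGrp.Action.restrict_act, Category.assoc, e.comm, whisker_exchange_assoc]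

theorem restrict_restrict {S : Scheme.{u}} {G H X : Over S} [GrpObj G] [GrpObj H] (φ : H ⟶ G) [IsMonHom φ]
    (ψ : G ⟶ H) [IsMonHom ψ] (h : ψ ≫ φ = 𝟙 G) (a : AlgGrp.Action G X) : (a.restrict φ).restrict ψ = a := by
  apply AlgGrp.Action.ext'
  rw [AlgGrp.Action.restrict_act, AlgGrp.Action.restrict_act, ← Category.assoc, ← comp_whiskerRight, h,
    id_whiskerRight, Category.id_comp]

theorem pull {T U V Z E : Scheme.{u}} (t : Z ⟶ V) (g : U ⟶ V) {jV : T ⟶ V} {jU : T ⟶ U} (h : jU ≫ g = jV)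
    {v : E ⟶ Z} {hE : E ⟶ T} (sq : IsPullback v hE t jV) :
    ∃ v' : E ⟶ pullback t g, IsPullback v' hE (pullback.snd t g) jU := by
  have w : v ≫ t = (hE ≫ jU) ≫ g := by rw [Category.assoc, h, sq.w]
  refine ⟨pullback.lift v (hE ≫ jU) w, ?_⟩
  refine IsPullback.of_right ?_ (pullback.lift_snd _ _ _) (IsPullback.of_hasPullback t g)
  rw [pullback.lift_fst, h]
  exact sq

theorem main (k K : Type u) [Field k] [IsAlgClosed k] [CharZero k] [Field K] [Algebra k K]
    (hK : (⊤ : IntermediateField k K).FG) (hW : ∀ n, W k n)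
    (S : Over (Spec (CommRingCat.of k))) [GrpObj S] [IsFinite S.hom]
    (α : NonAbH1.TorsorSch (Red.bc (Spec.map (CommRingCat.ofHom (algebraMap k K))) S) Scheme.etalePrecoverage) :
    ∃ (X : Scheme.{u}) (_ : IsIntegral X) (x : X ⟶ Spec (CommRingCat.of k)) (_ : Smooth x)
      (e : Spec (CommRingCat.of K) ≅ Spec X.functionField)
      (he : (e.hom ≫ X.fromSpecStalk (genericPoint X)) ≫ x = Spec.map (CommRingCat.ofHom (algebraMap k K)))
      (X' : Over X) (a : AlgGrp.Action (Red.bc x S) X')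
      (r : ℕ) (D : Fin r → X.IdealSheafData) (U : X.Opens),
      RelProj.IsHProjective x ∧ IsFinite X'.hom ∧ Pi1.IsNormalScheme X'.left ∧
      RelProj.IsHProjective (X'.hom ≫ x) ∧ LogNCD.IsNCD D x ∧
      (U : Set X) = (⋃ i, ((D i).support : Set X))ᶜ ∧ genericPoint X ∈ U ∧
      NonAbH1.IsTorsorFor Scheme.etalePrecoverage (a.bc U.ι) ∧
      Nonempty (NonAbH1.EquivIso
        ((a.bc (e.hom ≫ X.fromSpecStalk (genericPoint X))).restrict
          (ActBC.bcCompIso (e.hom ≫ X.fromSpecStalk (genericPoint X)) x S he).inv)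
        α.act) := by
  -- the torsor
  have hSe : Etale S.hom := Tors.etale k S
  have hS1 : IsFinite (Red.bc (Spec.map (CommRingCat.ofHom (algebraMap k K))) S).hom := by
    change IsFinite (pullback.snd S.hom _); infer_instance
  have hS2 : Etale (Red.bc (Spec.map (CommRingCat.ofHom (algebraMap k K))) S).hom := by
    change Etale (pullback.snd S.hom _); infer_instance
  obtain ⟨hE1, hE2, hE3⟩ := Tors.props α
  -- the projective model and the finite etale model over an open
  obtain ⟨X₀, _, x₀, d, j₀, hx₀, hd, ⟨e₀, rfl⟩, hj₀x⟩ := Model.exists_model k K hK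
  have hprop : IsProper x₀ := K631.ResE3.isProper_of_isHProjective hx₀
  have hLN : IsLocallyNoetherian X₀ := LocallyOfFiniteType.isLocallyNoetherian x₀
  obtain ⟨V, Z, t, v₀, jV, ht1, ht2, hjV, sq₀, hηV⟩ := Spread.exists_model e₀ α.X.hom
  have hZ : (V : Set X₀)ᶜ ≠ Set.univ := by
    intro h
    have h1 : genericPoint X₀ ∈ (V : Set X₀)ᶜ := by rw [h]; trivial
    exact h1 hηV
  -- resolution
  obtain ⟨X, φ, r, D, hX, hφx, ⟨W', hW'ne, hW'⟩, hsm, hD, hDZ⟩ :=
    hW d X₀ x₀ ‹_› hx₀ hd ((V : Set X₀)ᶜ) V.isOpen.isClosed_compl hZ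
  obtain ⟨j, ⟨e, he⟩, hjφ⟩ := IsGenPt.exists_lift_of_isIso ⟨e₀, rfl⟩ φ W' hW'ne hW'
  subst he
  have hprop' : IsProper (φ ≫ x₀) := K631.ResE3.isProper_of_isHProjective hφx
  have hLN' : IsLocallyNoetherian X := LocallyOfFiniteType.isLocallyNoetherian (φ ≫ x₀)
  have hNX : Pi1.IsNormalScheme X := Normal.isNormalScheme (φ ≫ x₀)
  have hjx : (e.hom ≫ X.fromSpecStalk (genericPoint X)) ≫ φ ≫ x₀ =
      Spec.map (CommRingCat.ofHom (algebraMap k K)) := by
    rw [← Category.assoc, hjφ, hj₀x]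
  have hjG : IsGenPt (e.hom ≫ X.fromSpecStalk (genericPoint X)) := ⟨e, rfl⟩
  have hj : IsNC (e.hom ≫ X.fromSpecStalk (genericPoint X)) := Normal.isNC hNX hjG
  -- the open `U`
  let U : X.Opens := ⟨(⋃ i, ((D i).support : Set X))ᶜ,
    (isClosed_iUnion_of_finite fun i => (D i).support.isClosed).isOpen_compl⟩
  have hηU : genericPoint X ∈ U := by
    intro h
    obtain ⟨i, hi⟩ := Set.mem_iUnion.mp h
    exact K27.JetMem.genericPoint_notMem hD i hi
  have hUV : ∀ y ∈ U, φ y ∈ V := by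
    intro y hy
    by_contra hc
    exact hy (hDZ hc)
  have : Nonempty U := ⟨⟨_, hηU⟩⟩
  let gU : U.toScheme ⟶ V.toScheme := IsOpenImmersion.lift V.ι (U.ι ≫ φ) (by
    rw [Scheme.Opens.range_ι]
    rintro _ ⟨y, rfl⟩
    exact hUV _ y.2)
  have hgU : gU ≫ V.ι = U.ι ≫ φ := IsOpenImmersion.lift_fac _ _ _
  obtain ⟨jU, hjUG, hjU⟩ := hjG.exists_lift U.ι
  have hjgU : jU ≫ gU = jV := by
    rw [← cancel_mono V.ι, Category.assoc, hgU, ← Category.assoc, hjU, hjφ, hjV]
  obtain ⟨vU, sqU⟩ := pull t gU hjgU sq₀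
  -- an affine open
  obtain ⟨O, hO, hηO, hOU⟩ : ∃ O : X.Opens, IsAffineOpen O ∧ genericPoint X ∈ O ∧ O ≤ U := by
    obtain ⟨_, ⟨O, hO, rfl⟩, hηO, hOU⟩ := X.isBasis_affineOpens.exists_subset_of_mem_open hηU U.isOpen
    exact ⟨O, hO, hηO, hOU⟩
  have : Nonempty O := ⟨⟨_, hηO⟩⟩
  have hOaff : IsAffine O := hO
  have hOι : IsAffineHom O.ι := IsAffineHom.of_comp O.ι (φ ≫ x₀)
  obtain ⟨jO, hjOG, hjO⟩ := hjG.exists_lift O.ι
  have hjgO : jO ≫ X.homOfLE hOU ≫ gU = jV := by
    rw [← cancel_mono V.ι, Category.assoc, Category.assoc, hgU, Scheme.homOfLE_ι_assoc, ← Category.assoc, hjO, hjφ,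
      hjV]
  obtain ⟨vO, sqO⟩ := pull t (X.homOfLE hOU ≫ gU) hjgO sq₀
  -- the normalization
  have hTaff : IsAffineHom (e.hom ≫ X.fromSpecStalk (genericPoint X)) := IsAffineHom.of_comp _ (φ ≫ x₀)
  let f : α.X.left ⟶ X := α.X.hom ≫ e.hom ≫ X.fromSpecStalk (genericPoint X)
  have hfaff : IsAffineHom f := inferInstance
  let N : Over X := Over.mk f.fromNormalization
  have hNfin : IsFinite N.hom :=
    Geo.isFinite_fromNormalization hNX hj α.X.hom O ⟨_, hηO⟩ hjO (pullback.snd t (X.homOfLE hOU ≫ gU)) sqO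
  have hEaff : IsAffine α.X.left := isAffine_of_isAffineHom α.X.hom
  have hELN : IsLocallyNoetherian α.X.left := LocallyOfFiniteType.isLocallyNoetherian α.X.hom
  have hNoe : IsNoetherian α.X.left := {}
  have hNnorm : Pi1.IsNormalScheme N.left :=
    Geo.isNormalScheme_normalization (Normal.isNormalScheme α.X.hom) f
  have hNC : IsNC (N := N.left) f.toNormalization := NC.toNormalization f
  have sq : IsPullback (P := α.X.left) (X := N.left) f.toNormalization α.X.hom N.hom
      (e.hom ≫ X.fromSpecStalk (genericPoint X)) :=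
    NormFib.isPullback e α.X.hom hNC N.hom (Scheme.Hom.toNormalization_fromNormalization f)
  -- the action
  let α' : AlgGrp.Action (Red.bc (e.hom ≫ X.fromSpecStalk (genericPoint X)) (Red.bc (φ ≫ x₀) S)) α.X :=
    α.act.restrict (ActBC.bcCompIso (e.hom ≫ X.fromSpecStalk (genericPoint X)) (φ ≫ x₀) S hjx).hom
  have hΓ1 : Etale (Red.bc (φ ≫ x₀) S).hom := by
    change Etale (pullback.snd S.hom _); infer_instance
  have hΓ2 : IsFinite (Red.bc (φ ≫ x₀) S).hom := by
    change IsFinite (pullback.snd S.hom _); infer_instance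
  obtain ⟨a, ⟨ε⟩⟩ := Core.main (N := N) (E := α.X) (v := f.toNormalization) hNC sq α'
  -- the torsor property over `U`
  have hα' : IsPseudoTorsorSch α' := ActDesc.isPseudoTorsorSch_restrict _ α.isTorsor.1
  have haj := ActDesc.isPseudoTorsorSch_of_equivIso ε hα'
  have hjUN : IsNC jU := Geo.isNC_of_mono hj U.ι hjU
  have hGN : Gen (e.hom ≫ X.fromSpecStalk (genericPoint X)) N := Core.gen_of_isPullback (N := N) (E := α.X) (v := f.toNormalization) hNC sq
  have hGU : Gen jU (Red.bc U.ι N) := TorsU.gen_bc hjU hGN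
  have i1 : IsFinite (Red.bc U.ι N).hom := by
    change IsFinite (pullback.snd N.hom _); infer_instance
  have i2 : IsIntegralHom (Over.mk (pullback.snd t gU)).hom := by
    change IsIntegralHom (pullback.snd t gU); infer_instance
  have i3 : Etale (Over.mk (pullback.snd t gU)).hom := by
    change Etale (pullback.snd t gU); infer_instance
  have hNet : Etale (Red.bc U.ι N).hom :=
    TorsU.etale_of_model hjUN hGU (Z := Over.mk (pullback.snd t gU))
      (ActBC.bcCompIso jU U.ι N hjU ≪≫ Core.isoOfIsPullback (N := N) (E := α.X) (v := f.toNormalization) sq ≪≫ (Core.isoOfIsPullback (N := Over.mk (pullback.snd t gU)) sqU).symm)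
  have hpt := TorsU.isPseudoTorsor hjUN hjU a haj
  have hsurj : Surjective (Red.bc U.ι N).hom := by
    apply TorsU.surjective_of_generic
    obtain ⟨y⟩ := hE3
    have w : f.toNormalization ≫ N.hom = (α.X.hom ≫ jU) ≫ U.ι := by
      rw [Category.assoc, hjU]; exact Scheme.Hom.toNormalization_fromNormalization f
    refine ⟨(pullback.lift f.toNormalization (α.X.hom ≫ jU) w : α.X.left ⟶ pullback N.hom U.ι) y, ?_⟩
    have h1 : (pullback.lift f.toNormalization (α.X.hom ≫ jU) w : α.X.left ⟶ pullback N.hom U.ι) ≫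
        (Red.bc U.ι N).hom = α.X.hom ≫ jU := pullback.lift_snd _ _ _
    rw [← Scheme.Hom.comp_apply, h1, Scheme.Hom.comp_apply]
    exact hjUG.mem _
  refine ⟨X, hX, φ ≫ x₀, hsm, e, hjx, N, a, r, D, U, hφx, hNfin, hNnorm, K588.HProj.comp_finite hφx N.hom, hD, rfl,
    hηU, ⟨hpt, TorsU.isLocallyTrivial _⟩, ⟨?_⟩⟩
  have h1 : α'.restrict (ActBC.bcCompIso (e.hom ≫ X.fromSpecStalk (genericPoint X)) (φ ≫ x₀) S hjx).inv = α.act :=
    restrict_restrict _ _ (Iso.inv_hom_id _) _
  rw [← h1]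
  exact restrictEquiv _ ε

end K616.ResE4
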