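import Groth.Agent.Resolve.K616.NC
import Groth.Prelude.Def_ActBC

/-!
# Morphisms determined by the generic fibre

`j : T ⟶ X` (the generic point of `X`). `Gen j M` for `M` over `X`: `M` is integrally closed in `M ×_X T`.
Then `Hom_X(M, F) = Hom_T(M_T, F_T)` for `F ⟶ X` integral, and `Gen` is stable under smooth morphisms.
-/

set_option autoImplicit false
universe u
open CategoryTheory CategoryTheory.Limits AlgebraicGeometry

namespace K616.Gen

open K616.NC

variable {T X : Scheme.{u}} (j : T ⟶ X)

/-- `M` is integrally closed in its restriction to `T` -/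
def Gen (M : Over X) : Prop := IsNC (pullback.fst M.hom j)

variable {j}

theorem isPullback_map {M M' : Over X} (m : M' ⟶ M) :
    IsPullback ((Over.pullback j).map m).left (pullback.fst M'.hom j) (pullback.fst M.hom j) m.left := by
  have h1 : ((Over.pullback j).map m).left ≫ pullback.snd M.hom j = pullback.snd M'.hom j :=
    Over.w ((Over.pullback j).map m)
  have h2 : m.left ≫ M.hom = M'.hom := Over.w m
  apply IsPullback.of_right (h₁₂ := pullback.snd M.hom j) (v₁₃ := j) (h₂₂ := M.hom)
  · rw [h1, h2]
    exact (IsPullback.of_hasPullback M'.hom j).flip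
  · exact ActBC.pullback_map_left_fst j m
  · exact (IsPullback.of_hasPullback M.hom j).flip

/-- `Gen` is stable under smooth morphisms -/
theorem of_smooth {M M' : Over X} (h : Gen j M) (m : M' ⟶ M) [Smooth m.left] : Gen j M' :=
  of_isPullback h (isPullback_map m)

theorem injective {M F : Over X} (h : Gen j M) [IsAffineHom F.hom] :
    Function.Injective (fun a : M ⟶ F => (Over.pullback j).map a) := by
  intro a b hab
  dsimp only at hab
  have h1 := ActBC.pullback_map_left_fst j a
  have h2 := ActBC.pullback_map_left_fst j b
  rw [hab] at h1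
  ext1
  exact hom_ext h F.hom _ _ (h1.symm.trans h2) ((Over.w a).trans (Over.w b).symm)

theorem surjective {M F : Over X} (h : Gen j M) [IsIntegralHom F.hom] :
    Function.Surjective (fun a : M ⟶ F => (Over.pullback j).map a) := by
  intro c
  have w : c.left ≫ pullback.snd F.hom j = pullback.snd M.hom j := Over.w c
  obtain ⟨a, h1, h2⟩ := exists_lift h M.hom F.hom (c.left ≫ pullback.fst F.hom j) (by
    rw [Category.assoc, pullback.condition, reassoc_of% w, pullback.condition])
  refine ⟨Over.homMk a h2, ?_⟩
  ext1
  apply pullback.hom_ext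
  · exact (ActBC.pullback_map_left_fst j (Over.homMk a h2 : M ⟶ F)).trans h1
  · exact (Over.w ((Over.pullback j).map (Over.homMk a h2 : M ⟶ F))).trans w.symm

/-- a morphism between objects integral over the base and integrally closed in the generic fibre is an
isomorphism when it is so on the generic fibres -/
theorem isIso {M F : Over X} (hM : Gen j M) (hF : Gen j F) [IsIntegralHom M.hom] [IsIntegralHom F.hom]
    (a : M ⟶ F) (ha : IsIso ((Over.pullback j).map a)) : IsIso a := by
  obtain ⟨b, hb⟩ := surjective (F := M) hF (inv ((Over.pullback j).map a))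
  dsimp only at hb
  refine ⟨b, injective (F := M) hM ?_, injective (F := F) hF ?_⟩
  · dsimp only
    rw [Functor.map_comp, hb, IsIso.hom_inv_id, CategoryTheory.Functor.map_id]
  · dsimp only
    rw [Functor.map_comp, hb, IsIso.inv_hom_id, CategoryTheory.Functor.map_id]

theorem exists_iso {M F : Over X} (hM : Gen j M) (hF : Gen j F) [IsIntegralHom M.hom] [IsIntegralHom F.hom]
    (e : (Over.pullback j).obj M ≅ (Over.pullback j).obj F) : ∃ a : M ≅ F, (Over.pullback j).mapIso a = e := by
  obtain ⟨a, ha⟩ := surjective (F := F) hM e.hom
  dsimp only at ha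
  have : IsIso a := isIso hM hF a (by rw [ha]; infer_instance)
  exact ⟨asIso a, Iso.ext ha⟩

end K616.Gen
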