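import Mathlib.AlgebraicGeometry.FunctionField
import Mathlib.AlgebraicGeometry.Stalk

/-!
# Generic points `T ⟶ Y` of an integral scheme
-/

set_option autoImplicit false
universe u
open CategoryTheory CategoryTheory.Limits AlgebraicGeometry

namespace K616.GenPt

/-- `j` is the generic point of `Y`, up to an isomorphism of the source -/
def IsGenPt {T Y : Scheme.{u}} [IsIntegral Y] (j : T ⟶ Y) : Prop :=
  ∃ e : T ≅ Spec Y.functionField, e.hom ≫ Y.fromSpecStalk (genericPoint Y) = j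

theorem exists_iso {Y : Scheme.{u}} (y y' : Y) (h : y = y') :
    ∃ e : Spec (Y.presheaf.stalk y) ≅ Spec (Y.presheaf.stalk y'), e.hom ≫ Y.fromSpecStalk y' = Y.fromSpecStalk y := by
  subst h
  exact ⟨Iso.refl _, Category.id_comp _⟩

/-- the generic point of an open subscheme -/
theorem exists_iso_openImmersion {U Y : Scheme.{u}} [IsIntegral U] [IsIntegral Y] (o : U ⟶ Y) [IsOpenImmersion o] :
    ∃ e : Spec U.functionField ≅ Spec Y.functionField,
      e.hom ≫ Y.fromSpecStalk (genericPoint Y) = U.fromSpecStalk (genericPoint U) ≫ o := by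
  obtain ⟨e, he⟩ := exists_iso (o (genericPoint U)) (genericPoint Y) (genericPoint_eq_of_isOpenImmersion o)
  refine ⟨(Scheme.Spec.mapIso (asIso (o.stalkMap (genericPoint U))).op) ≪≫ e, ?_⟩
  rw [Iso.trans_hom, Category.assoc, he]
  exact Scheme.SpecMap_stalkMap_fromSpecStalk _

theorem IsGenPt.comp {T U Y : Scheme.{u}} [IsIntegral U] [IsIntegral Y] {j : T ⟶ U} (h : IsGenPt j) (o : U ⟶ Y)
    [IsOpenImmersion o] : IsGenPt (j ≫ o) := by
  obtain ⟨e, he⟩ := h
  obtain ⟨e', he'⟩ := exists_iso_openImmersion o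
  exact ⟨e ≪≫ e', by rw [Iso.trans_hom, Category.assoc, he', ← Category.assoc, he]⟩

theorem IsGenPt.exists_lift {T U Y : Scheme.{u}} [IsIntegral U] [IsIntegral Y] {j : T ⟶ Y} (h : IsGenPt j) (o : U ⟶ Y)
    [IsOpenImmersion o] : ∃ j' : T ⟶ U, IsGenPt j' ∧ j' ≫ o = j := by
  obtain ⟨e, he⟩ := h
  obtain ⟨e', he'⟩ := exists_iso_openImmersion o
  refine ⟨(e ≪≫ e'.symm).hom ≫ U.fromSpecStalk (genericPoint U), ⟨_, rfl⟩, ?_⟩
  rw [Category.assoc, ← he', Iso.trans_hom, Iso.symm_hom, Category.assoc, Iso.inv_hom_id_assoc, he]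

/-- birational lift -/
theorem IsGenPt.exists_lift_of_isIso {T X Y : Scheme.{u}} [IsIntegral X] [IsIntegral Y] {j : T ⟶ Y} (h : IsGenPt j)
    (φ : X ⟶ Y) (V : Y.Opens) (hV : (V : Set Y).Nonempty) (hi : IsIso (φ ∣_ V)) :
    ∃ j' : T ⟶ X, IsGenPt j' ∧ j' ≫ φ = j := by
  have hV' : Nonempty V := hV.to_subtype
  have : Nonempty (V : Scheme.{u}) := hV'
  have : Nonempty ((φ ⁻¹ᵁ V : X.Opens) : Scheme.{u}) := by
    obtain ⟨y⟩ := hV'
    exact ⟨(inv (φ ∣_ V)) y⟩
  have h1 : IsIntegral (V : Scheme.{u}) := isIntegral_of_isOpenImmersion V.ι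
  have h2 : IsIntegral ((φ ⁻¹ᵁ V : X.Opens) : Scheme.{u}) := isIntegral_of_isOpenImmersion (φ ⁻¹ᵁ V).ι
  obtain ⟨j1, hj1, hj1'⟩ := h.exists_lift V.ι
  refine ⟨(j1 ≫ inv (φ ∣_ V)) ≫ (φ ⁻¹ᵁ V).ι, (hj1.comp _).comp _, ?_⟩
  rw [Category.assoc, ← morphismRestrict_ι, Category.assoc, IsIso.inv_hom_id_assoc, hj1']

/-- the affine case -/
theorem isGenPt_spec (A K : Type u) [CommRing A] [IsDomain A] [Field K] [Algebra A K] [IsFractionRing A K] :
    IsGenPt (Spec.map (CommRingCat.ofHom (algebraMap A K))) := by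
  let R := CommRingCat.of A
  have i0 : IsDomain R := ‹IsDomain A›
  let i1 : Algebra A (Spec R).functionField := instAlgebraCarrierFunctionFieldSpec R
  have i2 : IsFractionRing A (Spec R).functionField := functionField_isFractionRing_of_affine R
  let e : (Spec R).functionField ≃ₐ[A] K := IsLocalization.algEquiv (nonZeroDivisors A) (Spec R).functionField K
  refine ⟨(Scheme.Spec.mapIso (e.toRingEquiv.toCommRingCatIso).op), ?_⟩
  rw [Spec.fromSpecStalk_eq']
  change Spec.map _ ≫ Spec.map _ = _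
  rw [← Spec.map_comp]
  congr 1
  ext a
  have h := e.commutes a
  exact h

theorem IsGenPt.mem {T Y : Scheme.{u}} [IsIntegral Y] {j : T ⟶ Y} (h : IsGenPt j) (t : T) : j t = genericPoint Y := by
  obtain ⟨e, rfl⟩ := h
  have h1 : Y.fromSpecStalk (genericPoint Y) (e.hom t) ⤳ genericPoint Y := by
    have : Y.fromSpecStalk (genericPoint Y) (e.hom t) ∈ Set.range (Y.fromSpecStalk (genericPoint Y)) := ⟨_, rfl⟩
    rw [Scheme.range_fromSpecStalk] at this
    exact this
  rw [Scheme.Hom.comp_apply]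
  exact (h1.antisymm (genericPoint_specializes _)).eq

end K616.GenPt
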