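import Groth.Agent.Resolve.K616.NormFib2
import Groth.Agent.Resolve.K616.GenPt
import Groth.Agent.VarietyA.RegSmoothSch
import Groth.Agent.S0558
import Groth.Agent.CurvesC.RegNormal
import Groth.Prelude.Def_Pi1

/-!
# Normal schemes are integrally closed in the generic point
-/

set_option autoImplicit false
universe u
open CategoryTheory CategoryTheory.Limits AlgebraicGeometry

namespace K616.Normal

open K616.NC K616.GenPt Groth.Agent

theorem isNormalScheme {k : Type u} [Field k] {X : Scheme.{u}}
    (q : X ⟶ Spec (CommRingCat.of k)) [Smooth q] : Pi1.IsNormalScheme X := fun x =>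
  have : IsRegularLocalRing (X.presheaf.stalk x) :=
    Groth.Agent.VarietyA.RegSmoothSch.isRegularLocalRing_stalk_of_mem_smoothLocus q x
      (by rw [q.smoothLocus_eq_top]; trivial)
  ⟨Groth.Agent.S0558.result _, Groth.Agent.CurvesC.RegNormal.isIntegrallyClosed _⟩

theorem isIso_stalkMap {Z X : Scheme.{u}} (p : Z ⟶ X) [Flat p] [IsPreimmersion p] (z : Z) :
    IsIso (p.stalkMap z) := by
  have h1 : Function.Surjective (p.stalkMap z).hom := p.stalkMap_surjective z
  have h2 : (p.stalkMap z).hom.Flat := Flat.stalkMap p z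
  have h3 : (p.stalkMap z).hom.FaithfullyFlat := by
    have hloc : IsLocalHom (p.stalkMap z).hom := inferInstance
    let := (p.stalkMap z).hom.toAlgebra
    have hl : IsLocalHom (algebraMap (X.presheaf.stalk (p z)) (Z.presheaf.stalk z)) := hloc
    have hf : Module.Flat (X.presheaf.stalk (p z)) (Z.presheaf.stalk z) := h2
    exact Module.FaithfullyFlat.of_flat_of_isLocalHom
  have h4 : Function.Bijective (p.stalkMap z).hom := ⟨h3.injective, h1⟩
  exact (ConcreteCategory.isIso_iff_bijective (p.stalkMap z)).2 h4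

theorem flat_fromSpecStalk (Y : Scheme.{u}) (y : Y) : Flat (Y.fromSpecStalk y) := by
  obtain ⟨_, ⟨U, hU, rfl⟩, hyU, -⟩ :=
    Y.isBasis_affineOpens.exists_subset_of_mem_open (Set.mem_univ y) isOpen_univ
  rw [← hU.fromSpecStalk_eq_fromSpecStalk hyU]
  dsimp only [IsAffineOpen.fromSpecStalk]
  have : Flat (Spec.map (Y.presheaf.germ U y hyU)) := by
    rw [Flat.SpecMap_iff]
    let : Algebra Γ(Y, U) (Y.presheaf.stalk y) := (Y.presheaf.germ U y hyU).hom.toAlgebra
    have := hU.isLocalization_stalk ⟨y, hyU⟩
    exact IsLocalization.flat (Y.presheaf.stalk y) (hU.primeIdealOf ⟨y, hyU⟩).asIdeal.primeCompl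
  have : IsOpenImmersion hU.fromSpec := hU.isOpenImmersion_fromSpec
  have h2 : Flat hU.fromSpec := inferInstance
  exact Flat.comp _ _

theorem isNC {T X : Scheme.{u}} [IsIntegral X] (hX : Pi1.IsNormalScheme X) {j : T ⟶ X} (h : IsGenPt j) : IsNC j := by
  obtain ⟨e, rfl⟩ := h
  apply NormFib.iso_comp
  have h1 : IsField X.functionField := Field.toIsField _
  have : IsIntegral (Spec X.functionField) := inferInstance
  have hfl : Flat (X.fromSpecStalk (genericPoint X)) := flat_fromSpecStalk _ _
  have : QuasiCompact (X.fromSpecStalk (genericPoint X)) := inferInstance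
  have : QuasiSeparated (X.fromSpecStalk (genericPoint X)) := inferInstance
  exact of_generic (fun x => (hX x).2) _ (IsGenPt.mem ⟨Iso.refl _, Category.id_comp _⟩ _) (isIso_stalkMap _ _)

end K616.Normal
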