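import Groth.Agent.Resolve.K616.TorsU
import Groth.Agent.Resolve.K616.Normal
import Groth.Agent.Pi1.H384.NormFin
import Groth.Agent.EtBase.K152.NormComp
import Groth.Agent.S9673

/-!
# Finiteness and normality of the normalization in a finite etale scheme over the generic point
-/

set_option autoImplicit false
universe u
open CategoryTheory CategoryTheory.Limits AlgebraicGeometry

namespace K616.Geo

open K616.NC K616.Gen Groth.Agent

variable {T X : Scheme.{u}}

/-- restriction of the generic point to an open -/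
theorem isNC_of_mono {U : Scheme.{u}} {j : T ⟶ X} (hj : IsNC j) (g : U ⟶ X) [IsOpenImmersion g] {jU : T ⟶ U}
    (h : jU ≫ g = j) : IsNC jU :=
  of_isPullback hj (g := g) (q := 𝟙 _) (NormFib.isPullback_id_of_mono jU g _ h)

theorem etale_restrict_comp {Z U : Scheme.{u}} (O : X.Opens) (t : Z ⟶ O) [Etale t] : Etale ((t ≫ O.ι) ∣_ O) := by
  have h1 : Etale (((t ≫ O.ι) ∣_ O) ≫ O.ι) := by
    rw [morphismRestrict_ι]
    infer_instance
  exact Etale.of_comp _ O.ι

theorem isFinite_fromNormalization [IsIntegral X] [IsLocallyNoetherian X] (hX : Pi1.IsNormalScheme X) {j : T ⟶ X}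
    (hj : IsNC j) {E : Scheme.{u}} (h : E ⟶ T) (O : X.Opens) (hO : (O : Set X).Nonempty) [IsAffineHom O.ι] {jO : T ⟶ O}
    (hjO : jO ≫ O.ι = j) {Z : Scheme.{u}} (t : Z ⟶ O) [IsFinite t] [Etale t] {v : E ⟶ Z} (sq : IsPullback v h t jO)
    [QuasiCompact (h ≫ j)] [QuasiSeparated (h ≫ j)] : IsFinite (h ≫ j).fromNormalization := by
  have hv : IsNC v := of_isPullback (isNC_of_mono hj O.ι hjO) sq.flip
  let g : Z ⟶ X := t ≫ O.ι
  have hg : h ≫ j = v ≫ g := by
    rw [← hjO, ← sq.w_assoc]
  have h1 : Etale (g ∣_ O) := etale_restrict_comp (U := X) O t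
  have h2 : IsFinite g.fromNormalization := Pi1.H384.NormFin.isFinite_fromNormalization g hX O hO
  obtain ⟨_, _, _⟩ := hv
  have h3 : QuasiCompact (v ≫ g) := by rw [← hg]; infer_instance
  have h4 : QuasiSeparated (v ≫ g) := by rw [← hg]; infer_instance
  obtain ⟨e, he, -⟩ := K152.NormComp.exists_iso v g
  have h5 : IsFinite (v ≫ g).fromNormalization := by rw [← he]; infer_instance
  have key : ∀ (a b : E ⟶ X) [QuasiCompact a] [QuasiSeparated a] [QuasiCompact b] [QuasiSeparated b], a = b →
      IsFinite a.fromNormalization → IsFinite b.fromNormalization := by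
    intro a b _ _ _ _ hab hf
    subst hab
    exact hf
  exact key _ _ hg.symm h5

theorem isNormalScheme_normalization {E : Scheme.{u}} [IsNoetherian E] (hE : Pi1.IsNormalScheme E) (f : E ⟶ X)
    [QuasiCompact f] [QuasiSeparated f] : Pi1.IsNormalScheme f.normalization := by
  have hfin : (irreducibleComponents E).Finite := TopologicalSpace.NoetherianSpace.finite_irreducibleComponents
  have : Finite (irreducibleComponents E) := hfin
  exact (S9673.result f hE (locallyFinite_of_finite _)).1

end K616.Geo
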