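import Mathlib.AlgebraicGeometry.Normalization
import Groth.Agent.Ega3B.NormalBirational

/-!
# Schemes integrally closed in another scheme

`IsNC u` for `u : E ⟶ N` quasi-compact and quasi-separated: `N` is its own normalization in `E`.
-/

set_option autoImplicit false
universe u
open CategoryTheory CategoryTheory.Limits AlgebraicGeometry

namespace K616.NC

/-- `N` is integrally closed in `E` -/
def IsNC {E N : Scheme.{u}} (v : E ⟶ N) : Prop :=
  ∃ (_ : QuasiCompact v) (_ : QuasiSeparated v), IsIso v.fromNormalization

variable {E N M X F : Scheme.{u}}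

theorem hom_ext {v : E ⟶ N} (hv : IsNC v) (f : F ⟶ X) [IsAffineHom f] (a b : N ⟶ F)
    (h : v ≫ a = v ≫ b) (hf : a ≫ f = b ≫ f) : a = b := by
  obtain ⟨_, _, _⟩ := hv
  -- use the pullback of `F` to `N`
  let a' : N ⟶ pullback f (a ≫ f) := pullback.lift a (𝟙 N) (by rw [Category.id_comp])
  let b' : N ⟶ pullback f (a ≫ f) := pullback.lift b (𝟙 N) (by rw [Category.id_comp, hf])
  have haff : IsAffineHom (pullback.snd f (a ≫ f)) := MorphismProperty.pullback_snd _ _ inferInstance
  have key : v.fromNormalization ≫ a' = v.fromNormalization ≫ b' := by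
    apply Scheme.Hom.normalization.hom_ext v _ _ (pullback.snd f (a ≫ f))
    · rw [← Category.assoc, ← Category.assoc, Scheme.Hom.toNormalization_fromNormalization]
      apply pullback.hom_ext
      · rw [Category.assoc, Category.assoc, pullback.lift_fst, pullback.lift_fst, h]
      · rw [Category.assoc, Category.assoc, pullback.lift_snd, pullback.lift_snd]
    · rw [Category.assoc, pullback.lift_snd, Category.comp_id]
    · rw [Category.assoc, pullback.lift_snd, Category.comp_id]
  have h5 : a' = b' := (cancel_epi _).mp key
  calc a = a' ≫ pullback.fst _ _ := (pullback.lift_fst _ _ _).symm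
    _ = b' ≫ pullback.fst _ _ := by rw [h5]
    _ = b := pullback.lift_fst _ _ _

theorem exists_lift {v : E ⟶ N} (hv : IsNC v) (n : N ⟶ X) (f : F ⟶ X) [IsIntegralHom f] (h : E ⟶ F)
    (w : h ≫ f = v ≫ n) : ∃ a : N ⟶ F, v ≫ a = h ∧ a ≫ f = n := by
  obtain ⟨_, _, _⟩ := hv
  let P := pullback f n
  let l : E ⟶ P := pullback.lift h v w
  have H : v = l ≫ pullback.snd f n := (pullback.lift_snd _ _ _).symm
  let d := v.normalizationDesc l (pullback.snd f n) H
  have hd : d ≫ pullback.snd f n = v.fromNormalization := v.normalizationDesc_comp _ _ H
  have hd' : v.toNormalization ≫ d = l := v.toNormalization_normalizationDesc _ _ H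
  refine ⟨inv v.fromNormalization ≫ d ≫ pullback.fst f n, ?_, ?_⟩
  · have h1 : v ≫ inv v.fromNormalization = v.toNormalization := by
      rw [IsIso.comp_inv_eq, Scheme.Hom.toNormalization_fromNormalization]
    rw [reassoc_of% h1, reassoc_of% hd']
    exact pullback.lift_fst _ _ _
  · rw [Category.assoc, Category.assoc, pullback.condition, reassoc_of% hd, IsIso.inv_hom_id_assoc]

/-- stability under smooth base change -/
theorem of_isPullback {E' : Scheme.{u}} {v : E ⟶ N} (hv : IsNC v) {q : E' ⟶ E} {p : E' ⟶ M} {g : M ⟶ N}
    (sq : IsPullback q p v g) [Smooth g] : IsNC p := by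
  obtain ⟨_, _, _⟩ := hv
  have h1 : QuasiCompact p := MorphismProperty.of_isPullback sq ‹_›
  have h2 : QuasiSeparated p := MorphismProperty.of_isPullback sq ‹_›
  refine ⟨h1, h2, ?_⟩
  -- compare with the chosen pullback
  have h3 : IsIso (pullback.snd v g).fromNormalization := by
    rw [← Scheme.Hom.normalizationPullback_snd]
    infer_instance
  have e : p = sq.isoPullback.hom ≫ pullback.snd v g := (sq.isoPullback_hom_snd).symm
  -- the two normalizations agree
  let c := p.normalizationDesc (sq.isoPullback.hom ≫ (pullback.snd v g).toNormalization)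
    (pullback.snd v g).fromNormalization (by
      rw [Category.assoc, Scheme.Hom.toNormalization_fromNormalization]; exact e)
  have hc : c ≫ (pullback.snd v g).fromNormalization = p.fromNormalization := p.normalizationDesc_comp _ _ _
  have hc' : p.toNormalization ≫ c = sq.isoPullback.hom ≫ (pullback.snd v g).toNormalization :=
    p.toNormalization_normalizationDesc _ _ _
  let d := (pullback.snd v g).normalizationDesc (sq.isoPullback.inv ≫ p.toNormalization) p.fromNormalization (by
      rw [Category.assoc, Scheme.Hom.toNormalization_fromNormalization, sq.isoPullback_inv_snd])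
  have hd : d ≫ p.fromNormalization = (pullback.snd v g).fromNormalization :=
    (pullback.snd v g).normalizationDesc_comp _ _ _
  have hd' : (pullback.snd v g).toNormalization ≫ d = sq.isoPullback.inv ≫ p.toNormalization :=
    (pullback.snd v g).toNormalization_normalizationDesc _ _ _
  have h4 : c ≫ d = 𝟙 _ := by
    apply Scheme.Hom.normalization.hom_ext p _ _ p.fromNormalization
    · rw [reassoc_of% hc', hd', Iso.hom_inv_id_assoc, Category.comp_id]
    · rw [Category.assoc, hd, hc]
    · rw [Category.id_comp]
  have h5 : d ≫ c = 𝟙 _ := by
    apply Scheme.Hom.normalization.hom_ext (pullback.snd v g) _ _ (pullback.snd v g).fromNormalization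
    · rw [reassoc_of% hd', hc', Iso.inv_hom_id_assoc, Category.comp_id]
    · rw [Category.assoc, hc, hd]
    · rw [Category.id_comp]
  have : IsIso c := ⟨d, h4, h5⟩
  rw [← hc]
  infer_instance

/-- the normalization is integrally closed -/
theorem toNormalization (f : E ⟶ X) [QuasiCompact f] [QuasiSeparated f] : IsNC f.toNormalization := by
  refine ⟨inferInstance, inferInstance, ?_⟩
  let v := f.toNormalization
  have H : f = v.toNormalization ≫ v.fromNormalization ≫ f.fromNormalization := by
    rw [Scheme.Hom.toNormalization_fromNormalization_assoc, Scheme.Hom.toNormalization_fromNormalization]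
  let d := f.normalizationDesc v.toNormalization (v.fromNormalization ≫ f.fromNormalization) H
  have hd : d ≫ v.fromNormalization ≫ f.fromNormalization = f.fromNormalization := f.normalizationDesc_comp _ _ H
  have hd' : f.toNormalization ≫ d = v.toNormalization := f.toNormalization_normalizationDesc _ _ H
  refine ⟨d, ?_, ?_⟩
  · apply Scheme.Hom.normalization.hom_ext v _ _ v.fromNormalization
    · rw [Category.comp_id, ← Category.assoc, Scheme.Hom.toNormalization_fromNormalization, hd']
    · rw [Category.assoc]
      have : d ≫ v.fromNormalization = 𝟙 _ := by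
        apply Scheme.Hom.normalization.hom_ext f _ _ f.fromNormalization
        · rw [reassoc_of% hd', Scheme.Hom.toNormalization_fromNormalization, Category.comp_id]
        · rw [Category.assoc, hd]
        · rw [Category.id_comp]
      rw [this, Category.comp_id]
    · rw [Category.id_comp]
  · apply Scheme.Hom.normalization.hom_ext f _ _ f.fromNormalization
    · rw [reassoc_of% hd', Scheme.Hom.toNormalization_fromNormalization, Category.comp_id]
    · rw [Category.assoc, hd]
    · rw [Category.id_comp]

/-- a normal integral scheme is integrally closed in its generic point -/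
theorem of_generic {T X : Scheme.{u}} [IsIntegral X] [IsIntegral T]
    (hX : ∀ x : X, IsIntegrallyClosed (X.presheaf.stalk x)) (j : T ⟶ X) [QuasiCompact j] [QuasiSeparated j]
    (hgen : j (genericPoint T) = genericPoint X) (hbir : IsIso (j.stalkMap (genericPoint T))) : IsNC j :=
  ⟨inferInstance, inferInstance, Groth.Agent.Ega3B.NormalBirational.isIso_fromNormalization hX j hgen hbir⟩

end K616.NC
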