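import Groth.Agent.Resolve.K616.NC
import Groth.Agent.Sga3.H779.ExtNorm

/-!
# The generic fibre of the normalization in an integral scheme over the generic point
-/

set_option autoImplicit false
universe u
open CategoryTheory CategoryTheory.Limits AlgebraicGeometry

namespace K616.NormFib

open K616.NC

/-- uniqueness -/
theorem exists_iso {E N N' X : Scheme.{u}} {v : E ⟶ N} {v' : E ⟶ N'} (hv : IsNC v) (hv' : IsNC v')
    (n : N ⟶ X) (n' : N' ⟶ X) [IsIntegralHom n] [IsIntegralHom n'] (w : v ≫ n = v' ≫ n') :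
    ∃ e : N ≅ N', v ≫ e.hom = v' ∧ e.hom ≫ n' = n := by
  obtain ⟨a, ha, ha'⟩ := exists_lift hv n n' v' w.symm
  obtain ⟨b, hb, hb'⟩ := exists_lift hv' n' n v w
  refine ⟨⟨a, b, ?_, ?_⟩, ha, ha'⟩
  · apply hom_ext hv n
    · rw [reassoc_of% ha, hb, Category.comp_id]
    · rw [Category.assoc, hb', ha', Category.id_comp]
  · apply hom_ext hv' n'
    · rw [reassoc_of% hb, ha, Category.comp_id]
    · rw [Category.assoc, ha', hb', Category.id_comp]

/-- precomposition with an isomorphism -/
theorem iso_comp {E E' N : Scheme.{u}} {v : E ⟶ N} (hv : IsNC v) (e : E' ⟶ E) [IsIso e] : IsNC (e ≫ v) :=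
  of_isPullback hv (g := 𝟙 N) (q := e) (IsPullback.of_horiz_isIso ⟨by rw [Category.comp_id]⟩)

/-- ring form: `A` integral over `K = Frac R`, `C` the integral closure of `R` in `A`; then `A = C ⊗_R K` -/
theorem isPushout_integralClosure (R K A : Type u) [CommRing R] [IsDomain R] [Field K] [Algebra R K] [IsFractionRing R K]
    [CommRing A] [Algebra K A] [Algebra R A] [IsScalarTower R K A] [Algebra.IsIntegral K A] :
    IsPushout (CommRingCat.ofHom (algebraMap R (integralClosure R A))) (CommRingCat.ofHom (algebraMap R K))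
      (CommRingCat.ofHom (algebraMap (integralClosure R A) A)) (CommRingCat.ofHom (algebraMap K A)) := by
  have : IsLocalization ((nonZeroDivisors R).map (algebraMap R (integralClosure R A))) A := by
    refine ⟨?_, ?_, ?_⟩
    · rintro ⟨y, r, hr, rfl⟩
      have h1 : IsUnit (algebraMap R K r) := IsLocalization.map_units K ⟨r, hr⟩
      have h2 := h1.map (algebraMap K A)
      rw [← IsScalarTower.algebraMap_apply] at h2
      exact h2
    · intro a
      obtain ⟨m, hm⟩ := IsIntegral.exists_multiple_integral_of_isLocalization (nonZeroDivisors R) (Rₘ := K) a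
        (Algebra.IsIntegral.isIntegral a)
      refine ⟨⟨⟨m • a, hm⟩, ⟨algebraMap R _ m.1, m.1, m.2, rfl⟩⟩, ?_⟩
      change a * algebraMap R A m.1 = (m.1 • a)
      rw [Algebra.smul_def, mul_comm]
    · intro x y hxy
      exact ⟨1, by rw [OneMemClass.coe_one, one_mul, one_mul]; exact Subtype.ext hxy⟩
  exact CommRingCat.isPushout_of_isLocalization _ _ (by
    rw [← IsScalarTower.algebraMap_eq R K A, ← IsScalarTower.algebraMap_eq R (integralClosure R A) A])
    (nonZeroDivisors R)

/-- the affine case -/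
theorem isPullback_spec (R K : Type u) [CommRing R] [IsDomain R] [Field K] [Algebra R K] [IsFractionRing R K]
    {E N : Scheme.{u}} (h : E ⟶ Spec (CommRingCat.of K)) [IsIntegralHom h] {v : E ⟶ N} (hv : IsNC v)
    (n : N ⟶ Spec (CommRingCat.of R)) [IsIntegralHom n]
    (w : v ≫ n = h ≫ Spec.map (CommRingCat.ofHom (algebraMap R K))) :
    IsPullback v h n (Spec.map (CommRingCat.ofHom (algebraMap R K))) := by
  have hE : IsAffine E := isAffine_of_isAffineHom h
  let A : Type u := Γ(E, ⊤)
  let φ : CommRingCat.of K ⟶ CommRingCat.of A := (Scheme.ΓSpecIso (CommRingCat.of K)).inv ≫ h.appTop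
  have hφ : h = E.isoSpec.hom ≫ Spec.map φ := by
    rw [Spec.map_comp, ← Category.assoc]
    change _ = (_ ≫ Spec.map h.appTop) ≫ _
    rw [Scheme.isoSpec_hom_naturality, Category.assoc, Scheme.isoSpec_Spec_hom, ← Spec.map_comp]
    simp
  algebraize [φ.hom, φ.hom.comp (algebraMap R K)]
  have : Algebra.IsIntegral K A := by
    rw [← algebraMap_isIntegral_iff]
    change φ.hom.IsIntegral
    have h1 : IsIntegralHom (Spec.map φ) := by
      have : Spec.map φ = inv E.isoSpec.hom ≫ h := by rw [hφ, IsIso.inv_hom_id_assoc]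
      rw [this]; infer_instance
    exact IsIntegralHom.SpecMap_iff.mp h1
  let C := integralClosure R A
  have hpo := isPushout_integralClosure R K A
  have hpb := isPullback_SpecMap_of_isPushout _ _ _ _ hpo
  have hC : IsNC (Spec.map (CommRingCat.ofHom (algebraMap C A))) :=
    ⟨inferInstance, inferInstance, Groth.Agent.Sga3.H779.ExtNorm.isIso_fromNormalization_spec C A⟩
  have hC' : IsNC (E.isoSpec.hom ≫ Spec.map (CommRingCat.ofHom (algebraMap C A))) := iso_comp hC _
  have : IsIntegralHom (Spec.map (CommRingCat.ofHom (algebraMap R C))) :=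
    IsIntegralHom.SpecMap_iff.mpr (algebraMap_isIntegral_iff.mpr inferInstance)
  have hw : v ≫ n = (E.isoSpec.hom ≫ Spec.map (CommRingCat.ofHom (algebraMap C A))) ≫
      Spec.map (CommRingCat.ofHom (algebraMap R C)) := by
    rw [w, Category.assoc, hpb.w, hφ, Category.assoc]
    rfl
  obtain ⟨e, he1, he2⟩ := exists_iso hv hC' n (Spec.map (CommRingCat.ofHom (algebraMap R C))) hw
  exact hpb.of_iso E.isoSpec.symm e.symm (Iso.refl _) (Iso.refl _) (by
    rw [Iso.symm_hom, Iso.symm_hom, Iso.comp_inv_eq, Category.assoc, he1, Iso.inv_hom_id_assoc]) (by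
    rw [Iso.symm_hom, Iso.refl_hom, Category.comp_id, hφ, Iso.inv_hom_id_assoc]; rfl) (by
    rw [Iso.symm_hom, Iso.refl_hom, Category.comp_id, ← he2, Iso.inv_hom_id_assoc]) (by simp)

end K616.NormFib
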