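import Mathlib.RingTheory.Etale.Locus
import Mathlib.RingTheory.Localization.Integral
import Mathlib.RingTheory.Noetherian.Basic
import Mathlib.RingTheory.Polynomial.Basic
import Mathlib.RingTheory.Spectrum.Prime.Topology
import Mathlib.Algebra.Category.Ring.Constructions

/-!
# Spreading out a finite etale algebra over the fraction field
-/

set_option autoImplicit false
universe u
open CategoryTheory CategoryTheory.Limits

namespace K616.SpreadAlg

variable (R K A : Type u) [CommRing R] [IsDomain R] [Field K] [Algebra R K] [IsFractionRing R K]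
  [CommRing A] [Algebra K A] [Algebra R A] [IsScalarTower R K A]

omit [IsDomain R] in
/-- a finite model `C ⊆ A` over `R` of a finite `K`-algebra `A` -/
theorem exists_finite_model [Module.Finite K A] :
    ∃ C : Subalgebra R A, Module.Finite R C ∧ IsLocalization ((nonZeroDivisors R).map (algebraMap R C)) A := by
  classical
  obtain ⟨s, hs⟩ := Module.Finite.fg_top (R := K) (M := A)
  choose m hm using fun a : A => IsIntegral.exists_multiple_integral_of_isLocalization (nonZeroDivisors R) (Rₘ := K) a
    (Algebra.IsIntegral.isIntegral a)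
  let t : Finset A := s.image (fun a => m a • a)
  let C := Algebra.adjoin R (t : Set A)
  have hC : Module.Finite R C := by
    refine Module.Finite.iff_fg.mpr (fg_adjoin_of_finite t.finite_toSet ?_)
    intro x hx
    obtain ⟨a, -, rfl⟩ := Finset.mem_image.mp hx
    exact hm a
  refine ⟨C, hC, ?_, ?_, ?_⟩
  · rintro ⟨y, r, hr, rfl⟩
    have h1 : IsUnit (algebraMap R K r) := IsLocalization.map_units K ⟨r, hr⟩
    have h2 := h1.map (algebraMap K A)
    rw [← IsScalarTower.algebraMap_apply] at h2
    exact h2
  · have key : ∀ a : A, ∃ d ∈ nonZeroDivisors R, d • a ∈ C := by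
      intro a
      have ha : a ∈ Submodule.span K (s : Set A) := by rw [hs]; trivial
      induction ha using Submodule.span_induction with
      | mem x hx =>
        exact ⟨m x, (m x).2, Algebra.subset_adjoin (Finset.mem_image_of_mem _ hx)⟩
      | zero => exact ⟨1, one_mem _, by rw [smul_zero]; exact zero_mem _⟩
      | add x y _ _ hx hy =>
        obtain ⟨d, hd, hd'⟩ := hx
        obtain ⟨e, he, he'⟩ := hy
        refine ⟨d * e, mul_mem hd he, ?_⟩
        rw [smul_add]
        apply add_mem
        · rw [mul_comm, mul_smul]; exact C.smul_mem hd' e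
        · rw [mul_smul]; exact C.smul_mem he' d
      | smul c x _ hx =>
        obtain ⟨d, hd, hd'⟩ := hx
        obtain ⟨⟨r, e⟩, hre⟩ := IsLocalization.surj (nonZeroDivisors R) c
        refine ⟨e * d, mul_mem e.2 hd, ?_⟩
        have h1 : ((e : R) * d) • c • x = r • d • x := by
          have h2 : (e : R) • c = algebraMap R K r := by
            rw [Algebra.smul_def, mul_comm]; exact hre
          rw [mul_smul, smul_comm d c x, ← smul_assoc, h2, algebraMap_smul]
        rw [h1]
        exact C.smul_mem hd' r
    intro a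
    obtain ⟨d, hd, hda⟩ := key a
    refine ⟨⟨⟨d • a, hda⟩, ⟨algebraMap R _ d, d, hd, rfl⟩⟩, ?_⟩
    change a * algebraMap R A d = d • a
    rw [Algebra.smul_def, mul_comm]
  · intro x y hxy
    exact ⟨1, by rw [OneMemClass.coe_one, one_mul, one_mul]; exact Subtype.ext hxy⟩

omit [IsDomain R] in
theorem isEtaleAt [IsDomain R] [Algebra.FormallyEtale K A] (C : Type u) [CommRing C] [Algebra R C] [Algebra C A]
    [IsScalarTower R C A]
    [IsLocalization ((nonZeroDivisors R).map (algebraMap R C)) A] (q : PrimeSpectrum C)
    (hq : PrimeSpectrum.comap (algebraMap R C) q = ⟨⊥, Ideal.isPrime_bot⟩) : q ∈ Algebra.etaleLocus R C := by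
  rw [Algebra.mem_etaleLocus_iff]
  change Algebra.FormallyEtale R (Localization.AtPrime q.asIdeal)
  have h2 : Algebra.FormallyEtale R K := Algebra.FormallyEtale.of_isLocalization (nonZeroDivisors R)
  have h3 : Algebra.FormallyEtale R A := Algebra.FormallyEtale.comp R K A
  have hle : (nonZeroDivisors R).map (algebraMap R C) ≤ q.asIdeal.primeCompl := by
    rintro _ ⟨r, hr, rfl⟩ h
    have h1 : r ∈ (PrimeSpectrum.comap (algebraMap R C) q).asIdeal := h
    rw [hq] at h1
    exact nonZeroDivisors.ne_zero hr h1
  -- the map `A → C_q`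
  let φ : A →+* Localization.AtPrime q.asIdeal :=
    IsLocalization.map (M := (nonZeroDivisors R).map (algebraMap R C)) (T := q.asIdeal.primeCompl) _
      (RingHom.id C) hle
  have hφ : ∀ c : C, φ (algebraMap C A c) = algebraMap C (Localization.AtPrime q.asIdeal) c := fun c =>
    IsLocalization.map_eq _ _
  let _ : Algebra A (Localization.AtPrime q.asIdeal) := φ.toAlgebra
  have t1 : IsScalarTower C A (Localization.AtPrime q.asIdeal) := .of_algebraMap_eq fun c => (hφ c).symm
  have t2 : IsScalarTower R A (Localization.AtPrime q.asIdeal) := .of_algebraMap_eq fun r => by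
    rw [IsScalarTower.algebraMap_apply R C (Localization.AtPrime q.asIdeal), ← hφ,
      IsScalarTower.algebraMap_apply R C A]; rfl
  have h5 : IsLocalization (q.asIdeal.primeCompl.map (algebraMap C A)) (Localization.AtPrime q.asIdeal) :=
    IsLocalization.isLocalization_of_submonoid_le A (Localization.AtPrime q.asIdeal) _ _ hle
  have h6 : Algebra.FormallyEtale A (Localization.AtPrime q.asIdeal) :=
    Algebra.FormallyEtale.of_isLocalization (q.asIdeal.primeCompl.map (algebraMap C A))
  exact Algebra.FormallyEtale.comp R A _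

/-- the finite model is etale over a nonempty open subset -/
theorem exists_etale [IsNoetherianRing R] [Algebra.FormallyEtale K A] (C : Subalgebra R A) [Module.Finite R C]
    [IsLocalization ((nonZeroDivisors R).map (algebraMap R C)) A] :
    ∃ f : R, f ≠ 0 ∧ ∀ q : PrimeSpectrum C, algebraMap R C f ∉ q.asIdeal → q ∈ Algebra.etaleLocus R C := by
  have : Algebra.FinitePresentation R C := Algebra.FinitePresentation.of_finiteType.mp inferInstance
  have hcl : IsClosed ((Algebra.etaleLocus R C)ᶜ) := Algebra.isOpen_etaleLocus.isClosed_compl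
  have hcl' : IsClosed (PrimeSpectrum.comap (algebraMap R C) '' (Algebra.etaleLocus R C)ᶜ) :=
    (PrimeSpectrum.isClosedMap_comap_of_isIntegral _ (algebraMap_isIntegral_iff.mpr inferInstance)) _ hcl
  have hbot : (⟨⊥, Ideal.isPrime_bot⟩ : PrimeSpectrum R) ∈
      (PrimeSpectrum.comap (algebraMap R C) '' (Algebra.etaleLocus R C)ᶜ)ᶜ := by
    rintro ⟨q, hq, hq'⟩
    exact hq (isEtaleAt R K A C q hq')
  obtain ⟨_, ⟨_, ⟨g, rfl⟩, rfl⟩, hg, hg'⟩ :=
    PrimeSpectrum.isBasis_basic_opens.exists_subset_of_mem_open hbot hcl'.isOpen_compl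
  refine ⟨g, fun h => hg (by rw [h]; exact Ideal.zero_mem _), fun q hq => ?_⟩
  by_contra hc
  exact hg' (show PrimeSpectrum.comap (algebraMap R C) q ∈ _ from hq) ⟨q, hc, rfl⟩

end K616.SpreadAlg
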