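import Groth.Agent.Resolve.K616.Core
import Groth.Prelude.Def_NonAbH2

/-!
# The extended action is a torsor over the open where the normalization is etale
-/

set_option autoImplicit false
universe u
open CategoryTheory CategoryTheory.Limits MonoidalCategory CartesianMonoidalCategory MonObj GrpObj AlgebraicGeometry

namespace K616.TorsU

open K616.NC K616.Gen NonAbH1

variable {T X U : Scheme.{u}}

theorem gen_of_smooth {j : T ⟶ X} (hj : IsNC j) (M : Over X) [Smooth M.hom] : Gen j M :=
  of_isPullback hj (IsPullback.of_hasPullback M.hom j).flip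

theorem gen_bc {j : T ⟶ X} {g : U ⟶ X} [IsOpenImmersion g] {jU : T ⟶ U} (h : jU ≫ g = j) {N : Over X}
    (hN : Gen j N) : Gen jU (Red.bc g N) := by
  let ε := ActBC.bcCompIso jU g N h
  let l : ((Over.pullback j).obj N).left ⟶ (Red.bc g N).left := ε.inv.left ≫ pullback.fst (Red.bc g N).hom jU
  have hε : ε.inv.left ≫ ε.hom.left = 𝟙 _ := by rw [← Over.comp_left, Iso.inv_hom_id]; rfl
  have hε' : ε.hom.left ≫ ε.inv.left = 𝟙 _ := by rw [← Over.comp_left, Iso.hom_inv_id]; rfl
  have hl : l ≫ pullback.fst N.hom g = pullback.fst N.hom j := by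
    have h1 : ε.hom.left ≫ pullback.fst N.hom j = pullback.fst _ jU ≫ pullback.fst N.hom g :=
      ActBC.bcCompIso_hom_left_fst jU g N h
    rw [Category.assoc, ← h1, reassoc_of% hε]
  have h2 : IsNC l := of_isPullback hN (g := pullback.fst N.hom g) (q := 𝟙 _)
    (NormFib.isPullback_id_of_mono l _ _ hl)
  have h3 : pullback.fst (Red.bc g N).hom jU = ε.hom.left ≫ l := by
    rw [reassoc_of% hε']
  have h4 : IsIso ε.hom.left := inferInstanceAs (IsIso ((Over.forget T).map ε.hom))
  unfold Gen
  rw [h3]
  exact NormFib.iso_comp h2 _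

/-- the normalization is etale over `U` if it agrees with an etale scheme generically -/
theorem etale_of_model {jU : T ⟶ U} (hjU : IsNC jU) {N Z : Over U} [IsIntegralHom N.hom] [IsIntegralHom Z.hom]
    [Etale Z.hom] (hN : Gen jU N) (e : (Over.pullback jU).obj N ≅ (Over.pullback jU).obj Z) : Etale N.hom := by
  obtain ⟨a, -⟩ := exists_iso hN (gen_of_smooth hjU Z) e
  rw [← Over.w a.hom]
  have : IsIso a.hom.left := inferInstanceAs (IsIso ((Over.forget U).map a.hom))
  infer_instance

theorem isPseudoTorsor {j : T ⟶ X} {g : U ⟶ X} {jU : T ⟶ U} (hjU : IsNC jU) (h : jU ≫ g = j) {Γ N : Over X} [GrpObj Γ]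
    [Smooth Γ.hom] [IsIntegralHom Γ.hom] [IsIntegralHom N.hom] [Etale (Red.bc g N).hom] (a : AlgGrp.Action Γ N)
    (ha : IsPseudoTorsorSch (a.bc j)) : IsPseudoTorsorSch (a.bc g) := by
  have h1 : IsPseudoTorsorSch ((a.bc g).bc jU) :=
    ActDesc.isPseudoTorsorSch_of_equivIso (ActBC.equivIsoBcComp jU g h a)
      (ActDesc.isPseudoTorsorSch_restrict (ActBC.bcCompIso jU g Γ h).hom ha)
  apply ActDesc.isPseudoTorsorSch_of_bc jU (a.bc g) h1
  intro σ hσ
  have i1 : Smooth (Red.bc g Γ).hom := by change Smooth (pullback.snd Γ.hom g); infer_instance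
  have i2 : IsIntegralHom (Red.bc g Γ).hom := by
    change IsIntegralHom (pullback.snd Γ.hom g)
    exact MorphismProperty.pullback_snd _ _ inferInstance
  have i3 : IsIntegralHom (Red.bc g N).hom := by
    change IsIntegralHom (pullback.snd N.hom g)
    exact MorphismProperty.pullback_snd _ _ inferInstance
  have e1 : Smooth (Red.bc g Γ ⊗ Red.bc g N).hom := by
    change Smooth (pullback.fst (Red.bc g Γ).hom (Red.bc g N).hom ≫ (Red.bc g Γ).hom)
    infer_instance
  have e2 : IsIntegralHom (Red.bc g Γ ⊗ Red.bc g N).hom := by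
    change IsIntegralHom (pullback.fst (Red.bc g Γ).hom (Red.bc g N).hom ≫ (Red.bc g Γ).hom)
    have : IsIntegralHom (pullback.fst (Red.bc g Γ).hom (Red.bc g N).hom) :=
      MorphismProperty.pullback_fst _ _ inferInstance
    infer_instance
  have e3 : Smooth (Red.bc g N ⊗ Red.bc g N).hom := by
    change Smooth (pullback.fst (Red.bc g N).hom (Red.bc g N).hom ≫ (Red.bc g N).hom)
    infer_instance
  have e4 : IsIntegralHom (Red.bc g N ⊗ Red.bc g N).hom := by
    change IsIntegralHom (pullback.fst (Red.bc g N).hom (Red.bc g N).hom ≫ (Red.bc g N).hom)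
    have : IsIntegralHom (pullback.fst (Red.bc g N).hom (Red.bc g N).hom) :=
      MorphismProperty.pullback_fst _ _ inferInstance
    infer_instance
  exact Gen.isIso (gen_of_smooth hjU _) (gen_of_smooth hjU _) σ hσ

theorem isLocallyTrivial (N : Over U) [Etale N.hom] [Surjective N.hom] :
    IsLocallyTrivialFor Scheme.etalePrecoverage N := by
  refine ⟨Presieve.singleton N.hom, ?_, ?_⟩
  · unfold Scheme.etalePrecoverage
    rw [Scheme.singleton_mem_precoverage_iff]
    exact ⟨N.hom.surjective, inferInstance⟩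
  · rintro _ _ ⟨⟩
    exact ⟨𝟙 _, Category.id_comp _⟩

theorem surjective_of_generic {M U : Scheme.{u}} [IrreducibleSpace U] (f : M ⟶ U) [IsIntegralHom f]
    (hx : genericPoint U ∈ Set.range f) : Surjective f := by
  have hcl : IsClosed (Set.range f) := by
    rw [← Set.image_univ]
    exact f.isClosedMap _ isClosed_univ
  refine ⟨fun y => ?_⟩
  have h1 : genericPoint U ⤳ y := genericPoint_specializes y
  exact h1.mem_closed hcl hx

end K616.TorsU
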